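import Mathlib
import Groth.Prelude.Def_W4bk4git07Quot
import Groth.Agent.UnramFibre.Basic
import Groth.Agent.SmoothReduced.Basic
import Groth.Agent.GrpSch.CharZero

/-!
# Stabilizers of a group action and freeness
-/

set_option autoImplicit false
set_option backward.isDefEq.respectTransparency.types false

universe u

open CategoryTheory CategoryTheory.Limits MonoidalCategory CartesianMonoidalCategory MonObj
  AlgebraicGeometry Topology Opposite

namespace Groth.Agent.GITFree

variable {S : Scheme.{u}} {G X : Over S} [GrpObj G] (a : AlgGrp.Action G X)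

/-- The stabilizer scheme over `X`. -/
noncomputable abbrev St : Scheme.{u} :=
  pullback (GIT.psi a (𝟙 X)).left (lift (𝟙 X) (𝟙 X)).left

/-- The projection of the stabilizer to `X`. -/
noncomputable abbrev stX : St a ⟶ X.left :=
  pullback.snd (GIT.psi a (𝟙 X)).left (lift (𝟙 X) (𝟙 X)).left

theorem act_one_point {T : Over S} (x : T ⟶ X) : lift (1 : T ⟶ G) x ≫ a.act = x := by
  have h := congrArg (fun q => lift (toUnit T) x ≫ q) a.one_act
  simpa [Hom.one_def, leftUnitor_hom] using h

theorem act_mul_point {T : Over S} (g h : T ⟶ G) (x : T ⟶ X) :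
    lift (g * h) x ≫ a.act = lift g (lift h x ≫ a.act) ≫ a.act := by
  have := congrArg (fun q => lift (lift g h) x ≫ q) a.mul_act
  simpa [Hom.mul_def] using this

/-- The subgroup of points fixing `x`. -/
def stabPts {T : Over S} (x : T ⟶ X) : Subgroup (T ⟶ G) where
  carrier := {g | lift g x ≫ a.act = x}
  one_mem' := act_one_point a x
  mul_mem' {g h} hg hh := by
    change lift (g * h) x ≫ a.act = x
    rw [act_mul_point, show lift h x ≫ a.act = x from hh]
    exact hg
  inv_mem' {g} hg := by
    change lift g⁻¹ x ≫ a.act = x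
    conv_lhs => rw [← show lift g x ≫ a.act = x from hg]
    rw [← act_mul_point, inv_mul_cancel, act_one_point]

theorem psi_point {T : Over S} (g : T ⟶ G) (x : T ⟶ X) :
    lift g x ≫ GIT.psi a (𝟙 X) = lift (lift g x ≫ a.act) x := by
  apply CartesianMonoidalCategory.hom_ext <;> simp [GIT.psi]

theorem exists_lift_point {T : Over S} (g : T ⟶ G) (x : T ⟶ X) (h : g ∈ stabPts a x) :
    ∃ l : T.left ⟶ St a, l ≫ pullback.fst _ _ = (lift g x).left ∧ l ≫ stX a = x.left := by
  refine ⟨pullback.lift (lift g x).left x.left ?_, pullback.lift_fst _ _ _, pullback.lift_snd _ _ _⟩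
  rw [← Over.comp_left, ← Over.comp_left, psi_point, show lift g x ≫ a.act = x from h, comp_lift,
    Category.comp_id]

theorem exists_point {T₀ : Scheme.{u}} (l : T₀ ⟶ St a) :
    ∃ (T : Over S) (e : T.left = T₀) (g : T ⟶ G) (x : T ⟶ X), g ∈ stabPts a x ∧
      (lift g x).left = eqToHom e ≫ l ≫ pullback.fst _ _ ∧ x.left = eqToHom e ≫ l ≫ stX a := by
  let T : Over S := Over.mk (l ≫ stX a ≫ X.hom)
  let x : T ⟶ X := Over.homMk (l ≫ stX a) (Category.assoc _ _ _)
  have hw : (l ≫ pullback.fst _ _) ≫ (G ⊗ X).hom = l ≫ stX a ≫ X.hom := by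
    rw [← Over.w (GIT.psi a (𝟙 X)), Category.assoc, pullback.condition_assoc,
      Over.w (lift (𝟙 X) (𝟙 X))]
  let r : T ⟶ G ⊗ X := Over.homMk (l ≫ pullback.fst _ _) hw
  have hr : r ≫ GIT.psi a (𝟙 X) = lift x x := by
    rw [show lift x x = x ≫ lift (𝟙 X) (𝟙 X) by rw [comp_lift, Category.comp_id]]
    apply Over.OverMorphism.ext
    simp only [Over.comp_left, r, x, Over.homMk_left, Category.assoc, pullback.condition]
  have h1 : r ≫ a.act = x := by
    simpa [GIT.psi] using congrArg (fun k => k ≫ fst X X) hr
  have h2 : r ≫ snd G X = x := by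
    simpa [GIT.psi] using congrArg (fun k => k ≫ snd X X) hr
  have h3 : lift (r ≫ fst G X) x = r := by
    rw [← h2, ← comp_lift, lift_fst_snd, Category.comp_id]
  refine ⟨T, rfl, r ≫ fst G X, x, ?_, ?_, by simp [x]⟩
  · change lift (r ≫ fst G X) x ≫ a.act = x
    rw [h3, h1]
  · rw [h3]; simp [r]

theorem mono_stX_iff : Mono (stX a) ↔ ∀ {T : Over S} (g : T ⟶ G) (x : T ⟶ X),
    g ∈ stabPts a x → g = 1 := by
  constructor
  · intro hm T g x hg
    obtain ⟨l, hl1, hl2⟩ := exists_lift_point a g x hg
    obtain ⟨l₀, hl1', hl2'⟩ := exists_lift_point a 1 x (one_mem _)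
    have : l = l₀ := by rw [← cancel_mono (stX a), hl2, hl2']
    have h3 : lift g x = lift 1 x := Over.OverMorphism.ext (by rw [← hl1, ← hl1', this])
    simpa using congrArg (fun k => k ≫ fst G X) h3
  · intro h
    refine ⟨fun {T₀} l₁ l₂ hl => ?_⟩
    have key : ∀ l : T₀ ⟶ St a, l ≫ pullback.fst _ _ =
        (lift (1 : Over.mk ((l ≫ stX a) ≫ X.hom) ⟶ G)
          (Over.homMk (l ≫ stX a) rfl : Over.mk ((l ≫ stX a) ≫ X.hom) ⟶ X)).left := by
      intro l
      let T : Over S := Over.mk ((l ≫ stX a) ≫ X.hom)
      have hw : (l ≫ pullback.fst _ _) ≫ (G ⊗ X).hom = (l ≫ stX a) ≫ X.hom := by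
        rw [← Over.w (GIT.psi a (𝟙 X)), Category.assoc, pullback.condition_assoc,
          Over.w (lift (𝟙 X) (𝟙 X)), Category.assoc]
      let r : T ⟶ G ⊗ X := Over.homMk (l ≫ pullback.fst _ _) hw
      let x : T ⟶ X := Over.homMk (l ≫ stX a) rfl
      have hr : r ≫ GIT.psi a (𝟙 X) = lift x x := by
        rw [show lift x x = x ≫ lift (𝟙 X) (𝟙 X) by rw [comp_lift, Category.comp_id]]
        apply Over.OverMorphism.ext
        simp only [Over.comp_left, r, x, Over.homMk_left, Category.assoc, pullback.condition]
      have h1 : r ≫ a.act = x := by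
        simpa [GIT.psi] using congrArg (fun k => k ≫ fst X X) hr
      have h2 : r ≫ snd G X = x := by
        simpa [GIT.psi] using congrArg (fun k => k ≫ snd X X) hr
      have h3 : lift (r ≫ fst G X) x = r := by
        rw [← h2, ← comp_lift, lift_fst_snd, Category.comp_id]
      have h4 : r ≫ fst G X = 1 := h _ x (show lift _ x ≫ a.act = x by rw [h3, h1])
      change r.left = _
      rw [← h3, h4]
    have key2 : ∀ (u₁ u₂ : T₀ ⟶ X.left) (_ : u₁ = u₂),
        (lift (1 : Over.mk (u₁ ≫ X.hom) ⟶ G) (Over.homMk u₁ : Over.mk (u₁ ≫ X.hom) ⟶ X)).left =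
        (lift (1 : Over.mk (u₂ ≫ X.hom) ⟶ G) (Over.homMk u₂ : Over.mk (u₂ ≫ X.hom) ⟶ X)).left := by
      rintro u _ rfl; rfl
    refine pullback.hom_ext ?_ hl
    rw [key l₁, key l₂]
    exact key2 _ _ hl

theorem mono_psi_iff : Mono (GIT.psi a (𝟙 X)).left ↔ Mono (stX a) := by
  refine ⟨fun _ => inferInstanceAs (Mono (pullback.snd _ _)), fun hm => ?_⟩
  refine ⟨fun {T₀} q₁ q₂ hq => ?_⟩
  let T : Over S := Over.mk (q₁ ≫ (G ⊗ X).hom)
  let r₁ : T ⟶ G ⊗ X := Over.homMk q₁ rfl
  let r₂ : T ⟶ G ⊗ X := Over.homMk q₂ (by
    change _ = q₁ ≫ (G ⊗ X).hom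
    rw [← Over.w (GIT.psi a (𝟙 X)), ← reassoc_of% hq])
  have hr : r₁ ≫ GIT.psi a (𝟙 X) = r₂ ≫ GIT.psi a (𝟙 X) := Over.OverMorphism.ext hq
  have h1 : r₁ ≫ a.act = r₂ ≫ a.act := by
    simpa [GIT.psi] using congrArg (fun k => k ≫ fst X X) hr
  have h2 : r₁ ≫ snd G X = r₂ ≫ snd G X := by
    simpa [GIT.psi] using congrArg (fun k => k ≫ snd X X) hr
  have e1 : lift (r₁ ≫ fst G X) (r₁ ≫ snd G X) = r₁ := by
    rw [← comp_lift, lift_fst_snd, Category.comp_id]
  have e2 : lift (r₂ ≫ fst G X) (r₁ ≫ snd G X) = r₂ := by
    rw [h2, ← comp_lift, lift_fst_snd, Category.comp_id]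
  have hfix : (r₂ ≫ fst G X)⁻¹ * (r₁ ≫ fst G X) ∈ stabPts a (r₁ ≫ snd G X) := by
    change lift _ _ ≫ a.act = _
    rw [act_mul_point, e1, h1]
    conv_lhs => rw [show r₂ ≫ a.act = lift (r₂ ≫ fst G X) (r₁ ≫ snd G X) ≫ a.act by rw [e2]]
    rw [← act_mul_point, inv_mul_cancel, act_one_point]
  have h3 := inv_mul_eq_one.mp ((mono_stX_iff a).mp hm _ _ hfix)
  have : r₁ = r₂ := by rw [← e1, ← e2, h3]
  exact congrArg CommaMorphism.left this

theorem exists_section : ∃ s : X.left ⟶ St a, s ≫ stX a = 𝟙 _ := by
  obtain ⟨l, -, hl⟩ := exists_lift_point a 1 (𝟙 X) (one_mem _)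
  exact ⟨l, hl⟩

theorem isIso_stX_of_mono [Mono (stX a)] : IsIso (stX a) := by
  obtain ⟨s, hs⟩ := exists_section a
  exact ⟨s, by rw [← cancel_mono (stX a), Category.assoc, hs, Category.comp_id, Category.id_comp],
    hs⟩

theorem isClosedImmersion_psi_of_fibres [IsProper (GIT.psi a (𝟙 X)).left]
    (h : ∀ x : X.left, IsIso ((stX a).fiberToSpecResidueField x)) :
    IsClosedImmersion (GIT.psi a (𝟙 X)).left := by
  haveI : LocallyOfFiniteType (stX a) :=
    MorphismProperty.pullback_snd (P := @LocallyOfFiniteType) _ _ inferInstance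
  haveI : Mono (stX a) := (UnramFibre.mono_iff_fibres (stX a)).mpr fun x => by
    haveI := h x; infer_instance
  haveI : Mono (GIT.psi a (𝟙 X)).left := (mono_psi_iff a).mpr ‹_›
  exact (IsClosedImmersion.iff_isProper_and_mono _).mpr ⟨inferInstance, inferInstance⟩

theorem mono_of_formallyUnramified_of_universallyInjective {X Y : Scheme.{u}} (f : X ⟶ Y)
    [FormallyUnramified f] [LocallyOfFiniteType f] [UniversallyInjective f] : Mono f := by
  have hsurj : Surjective (pullback.diagonal f) := (UniversallyInjective.iff_diagonal f).mp ‹_›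
  haveI : IsIso (pullback.diagonal f) := isIso_of_isOpenImmersion_of_opensRange_eq_top _
    (TopologicalSpace.Opens.ext (Set.range_eq_univ.2 hsurj.surj))
  exact (pullback.isIso_diagonal_iff f).1 inferInstance

/-- An injective smooth separated morphism to a reduced point with a section is an isomorphism. -/
theorem isIso_of_smooth_of_injective {T F : Scheme.{u}} [Subsingleton T] [Nonempty T]
    [AlgebraicGeometry.IsReduced T] (p : F ⟶ T) [Smooth p] [IsSeparated p]
    (hp : Function.Injective p.base) (e : T ⟶ F) (he : e ≫ p = 𝟙 _) : IsIso p := by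
  haveI : AlgebraicGeometry.IsReduced F := SmoothReduced.isReduced_of_smooth_scheme p
  haveI : IsClosedImmersion (e ≫ p) := by rw [he]; infer_instance
  haveI : IsClosedImmersion e := IsClosedImmersion.of_comp e p
  haveI : Subsingleton F := ⟨fun x y => hp (Subsingleton.elim _ _)⟩
  haveI : Surjective e := ⟨fun x => ⟨Classical.arbitrary T, Subsingleton.elim _ _⟩⟩
  haveI : IsIso e := isIso_of_isClosedImmersion_of_surjective e
  have : p = inv e := by rw [← cancel_epi e, he, IsIso.hom_inv_id]
  rw [this]
  infer_instance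

section Fibre

variable (x : X.left)

/-- The point `Spec κ(x) → X` over `S`. -/
noncomputable abbrev resPt : Spec (X.left.residueField x) ⟶ S :=
  X.left.fromSpecResidueField x ≫ X.hom

/-- The `X`-point of a scheme over `κ(x)`. -/
noncomputable def resPoint (T : Over (Spec (X.left.residueField x))) :
    (Over.map (resPt (X := X) x)).obj T ⟶ X :=
  Over.homMk (T.hom ≫ X.left.fromSpecResidueField x) (by simp [resPt])

theorem resPoint_comp {T T' : Over (Spec (X.left.residueField x))} (f : T' ⟶ T) :
    (Over.map (resPt (X := X) x)).map f ≫ resPoint x T = resPoint x T' := by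
  apply Over.OverMorphism.ext
  simp [resPoint]

/-- The functor of points of the stabilizer of `x`. -/
noncomputable def stabFunctor : (Over (Spec (X.left.residueField x)))ᵒᵖ ⥤ GrpCat.{u} where
  obj T := GrpCat.of (stabPts a (resPoint x T.unop))
  map {T T'} f := GrpCat.ofHom
    { toFun := fun g => ⟨(Over.map (resPt (X := X) x)).map f.unop ≫ g.1, by
        change lift _ (resPoint x T'.unop) ≫ a.act = resPoint x T'.unop
        rw [← resPoint_comp x f.unop, ← comp_lift, Category.assoc,
          show lift g.1 (resPoint x T.unop) ≫ a.act = _ from g.2]⟩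
      map_one' := Subtype.ext (MonObj.comp_one _)
      map_mul' := fun g h => Subtype.ext (MonObj.comp_mul _ _ _) }
  map_id T := by
    refine GrpCat.ext fun g => ?_
    refine Subtype.ext ?_
    change (Over.map (resPt (X := X) x)).map (𝟙 T.unop) ≫ g.1 = g.1
    rw [CategoryTheory.Functor.map_id, Category.id_comp]
  map_comp f g := by
    refine GrpCat.ext fun z => ?_
    refine Subtype.ext ?_
    change (Over.map (resPt (X := X) x)).map (g.unop ≫ f.unop) ≫ z.1 = _
    rw [CategoryTheory.Functor.map_comp, Category.assoc]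
    rfl

/-- The fibre of the stabilizer at `x`, over `κ(x)`. -/
noncomputable abbrev fibObj : Over (Spec (X.left.residueField x)) :=
  Over.mk ((stX a).fiberToSpecResidueField x)

/-- A point of the fibre gives a point of the group. -/
noncomputable def toPt {T : Over (Spec (X.left.residueField x))} (f : T ⟶ fibObj a x) :
    (Over.map (resPt (X := X) x)).obj T ⟶ G ⊗ X :=
  Over.homMk (f.left ≫ (stX a).fiberι x ≫ pullback.fst _ _) (by
    change (f.left ≫ (stX a).fiberι x ≫ pullback.fst _ _) ≫ (G ⊗ X).hom = T.hom ≫ resPt x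
    have e1 : f.left ≫ (stX a).fiberToSpecResidueField x = T.hom := Over.w f
    rw [← e1, ← Over.w (GIT.psi a (𝟙 X)), Category.assoc, Category.assoc, Category.assoc,
      pullback.condition_assoc, Over.w (lift (𝟙 X) (𝟙 X)), resPt,
      ← reassoc_of% (stX a).fiber_fac x])

theorem toPt_act {T : Over (Spec (X.left.residueField x))} (f : T ⟶ fibObj a x) :
    toPt a x f ≫ a.act = resPoint x T ∧ toPt a x f ≫ snd G X = resPoint x T := by
  have e1 : f.left ≫ (stX a).fiberToSpecResidueField x = T.hom := Over.w f
  have hψ : toPt a x f ≫ GIT.psi a (𝟙 X) = lift (resPoint x T) (resPoint x T) := by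
    rw [show lift (resPoint x T) (resPoint x T) = resPoint x T ≫ lift (𝟙 X) (𝟙 X) by
      rw [comp_lift, Category.comp_id]]
    apply Over.OverMorphism.ext
    simp only [Over.comp_left, toPt, resPoint, Over.homMk_left, Category.assoc, pullback.condition]
    change f.left ≫ (stX a).fiberι x ≫ stX a ≫ _ = _
    rw [reassoc_of% (stX a).fiber_fac x, reassoc_of% e1]
  exact ⟨by simpa [GIT.psi] using congrArg (fun k => k ≫ fst X X) hψ,
    by simpa [GIT.psi] using congrArg (fun k => k ≫ snd X X) hψ⟩

theorem toPt_eq {T : Over (Spec (X.left.residueField x))} (f : T ⟶ fibObj a x) :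
    lift (toPt a x f ≫ fst G X) (resPoint x T) = toPt a x f := by
  rw [← (toPt_act a x f).2, ← comp_lift, lift_fst_snd, Category.comp_id]

/-- The fibre represents the stabilizer functor. -/
noncomputable def stabRep :
    (stabFunctor a x ⋙ forget GrpCat).RepresentableBy (fibObj a x) where
  homEquiv {T} :=
    { toFun := fun f => (⟨toPt a x f ≫ fst G X, by
        change lift _ (resPoint x T) ≫ a.act = resPoint x T
        rw [toPt_eq, (toPt_act a x f).1]⟩ : stabPts a (resPoint x T))
      invFun := fun g => Over.homMk (pullback.lift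
        (pullback.lift (lift (g : stabPts a (resPoint x T)).1 (resPoint x T)).left
          (resPoint x T).left (by
            rw [← Over.comp_left, ← Over.comp_left, psi_point,
              show lift _ (resPoint x T) ≫ a.act = _ from (g : stabPts a (resPoint x T)).2,
              comp_lift, Category.comp_id]))
        T.hom (by rw [pullback.lift_snd]; rfl)) (pullback.lift_snd _ _ _)
      left_inv := fun f => by
        apply Over.OverMorphism.ext
        apply pullback.hom_ext
        · apply pullback.hom_ext
          · simp only [Over.homMk_left, pullback.lift_fst_assoc, pullback.lift_fst]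
            rw [toPt_eq]
            simp [toPt, Scheme.Hom.fiberι]
            exact (Category.assoc _ _ _).symm
          · simp only [Over.homMk_left, pullback.lift_fst_assoc, pullback.lift_snd]
            erw [pullback.lift_fst, pullback.lift_snd]
            change T.hom ≫ X.left.fromSpecResidueField x =
              (f.left ≫ pullback.fst (stX a) (X.left.fromSpecResidueField x)) ≫ stX a
            refine Eq.trans ?_ (Category.assoc _ _ _).symm
            refine Eq.trans ?_ (congrArg (f.left ≫ ·) pullback.condition.symm)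
            refine Eq.trans ?_ (Category.assoc _ _ _)
            exact congrArg (· ≫ X.left.fromSpecResidueField x) (Over.w f).symm
        · simp only [Over.homMk_left, pullback.lift_snd]
          exact (Over.w f).symm
      right_inv := fun g => by
        apply Subtype.ext
        have : toPt a x (Over.homMk (pullback.lift
          (pullback.lift (lift (g : stabPts a (resPoint x T)).1 (resPoint x T)).left
            (resPoint x T).left (by
              rw [← Over.comp_left, ← Over.comp_left, psi_point,
                show lift _ (resPoint x T) ≫ a.act = _ from (g : stabPts a (resPoint x T)).2,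
                comp_lift, Category.comp_id]))
          T.hom (by rw [pullback.lift_snd]; rfl)) (pullback.lift_snd _ _ _)) =
            lift (g : stabPts a (resPoint x T)).1 (resPoint x T) := by
          apply Over.OverMorphism.ext
          simp [toPt, Scheme.Hom.fiberι]
          erw [pullback.lift_fst_assoc, pullback.lift_fst]
        simp only [this, lift_fst] }
  homEquiv_comp {T T'} h f := by
    apply Subtype.ext
    change toPt a x (h ≫ f) ≫ fst G X = (Over.map (resPt (X := X) x)).map h ≫ toPt a x f ≫ fst G X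
    rw [← Category.assoc]
    congr 1

theorem isIso_fibre_of_charZero [CharZero (X.left.residueField x)]
    [LocallyOfFiniteType (stX a)] [IsSeparated (stX a)] [UniversallyInjective (stX a)] :
    IsIso ((stX a).fiberToSpecResidueField x) := by
  let _ : GrpObj (fibObj a x) := GrpObj.ofRepresentableBy _ _ (stabRep a x)
  haveI : LocallyOfFiniteType (fibObj a x).hom :=
    MorphismProperty.pullback_snd (P := @LocallyOfFiniteType) _ _ inferInstance
  haveI : Smooth ((stX a).fiberToSpecResidueField x) :=
    GrpSch.smooth_of_charZero (K := X.left.residueField x) (fibObj a x)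
  haveI : IsSeparated ((stX a).fiberToSpecResidueField x) :=
    MorphismProperty.pullback_snd (P := @IsSeparated) _ _ inferInstance
  haveI : UniversallyInjective ((stX a).fiberToSpecResidueField x) :=
    MorphismProperty.pullback_snd (P := @UniversallyInjective) _ _ inferInstance
  exact isIso_of_smooth_of_injective _ (Scheme.Hom.injective _)
    ((η[fibObj a x] : 𝟙_ _ ⟶ fibObj a x).left) (Over.w (η[fibObj a x] : 𝟙_ _ ⟶ fibObj a x))

end Fibre

theorem isIso_fibre_of_unramified [LocallyOfFiniteType (stX a)] [FormallyUnramified (stX a)]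
    [UniversallyInjective (stX a)] (x : X.left) :
    IsIso ((stX a).fiberToSpecResidueField x) := by
  haveI : Mono (stX a) := mono_of_formallyUnramified_of_universallyInjective _
  haveI : IsIso (stX a) := isIso_stX_of_mono a
  exact inferInstanceAs (IsIso (pullback.snd _ _))

end Groth.Agent.GITFree

namespace Groth.Agent.GITFree

variable {k : Type u} [Field k] {G X : Over (Spec (CommRingCat.of k))} [GrpObj G]
  [IsAffine G.left] [LocallyOfFiniteType G.hom] [LocallyOfFiniteType X.hom] [IsSeparated X.hom]
  (a : AlgGrp.Action G X)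

theorem charZero_residueField [CharZero k] (x : X.left) : CharZero (X.left.residueField x) :=
  charZero_of_injective_ringHom
    (RingHom.injective (Spec.preimage (X.left.fromSpecResidueField x ≫ X.hom)).hom)

theorem stX_properties : LocallyOfFiniteType (stX a) ∧ IsSeparated (stX a) := by
  haveI : LocallyOfFiniteType (G ⊗ X).hom :=
    inferInstanceAs (LocallyOfFiniteType (pullback.fst G.hom X.hom ≫ G.hom))
  haveI : IsSeparated G.hom := inferInstance
  haveI : IsSeparated (G ⊗ X).hom :=
    inferInstanceAs (IsSeparated (pullback.fst G.hom X.hom ≫ G.hom))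
  haveI : LocallyOfFiniteType ((GIT.psi a (𝟙 X)).left ≫ (X ⊗ X).hom) := by
    rw [Over.w (GIT.psi a (𝟙 X))]; infer_instance
  haveI : IsSeparated ((GIT.psi a (𝟙 X)).left ≫ (X ⊗ X).hom) := by
    rw [Over.w (GIT.psi a (𝟙 X))]; infer_instance
  haveI : LocallyOfFiniteType (GIT.psi a (𝟙 X)).left := locallyOfFiniteType_of_comp _ (X ⊗ X).hom
  haveI : IsSeparated (GIT.psi a (𝟙 X)).left := IsSeparated.of_comp _ (X ⊗ X).hom
  exact ⟨MorphismProperty.pullback_snd (P := @LocallyOfFiniteType) _ _ inferInstance,
    MorphismProperty.pullback_snd (P := @IsSeparated) _ _ inferInstance⟩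

theorem isIso_fibres (hG : CharZero k ∨ (IsFinite G.hom ∧ Etale G.hom))
    [UniversallyInjective (stX a)] (x : X.left) :
    IsIso ((stX a).fiberToSpecResidueField x) := by
  obtain ⟨h1, h2⟩ := stX_properties a
  rcases hG with h | ⟨-, h⟩
  · haveI := charZero_residueField (X := X) x
    exact isIso_fibre_of_charZero a x
  · haveI : IsClosedImmersion (lift (𝟙 X) (𝟙 X)).left := by
      have hd : pullback.diagonal X.hom = (lift (𝟙 X) (𝟙 X)).left := by rw [Over.lift_left]; rfl
      rw [← hd]
      exact IsSeparated.isClosedImmersion_diagonal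
    haveI : IsClosedImmersion (pullback.fst (GIT.psi a (𝟙 X)).left (lift (𝟙 X) (𝟙 X)).left) :=
      MorphismProperty.pullback_fst (P := @IsClosedImmersion) _ _ inferInstance
    haveI : FormallyUnramified G.hom := inferInstance
    haveI : FormallyUnramified (snd G X).left :=
      MorphismProperty.pullback_snd (P := @FormallyUnramified) G.hom X.hom inferInstance
    have e : stX a = pullback.fst (GIT.psi a (𝟙 X)).left (lift (𝟙 X) (𝟙 X)).left ≫ (snd G X).left := by
      have := congrArg (fun t => t ≫ (snd X X).left)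
        (pullback.condition (f := (GIT.psi a (𝟙 X)).left) (g := (lift (𝟙 X) (𝟙 X)).left))
      simp only [Category.assoc, ← Over.comp_left, lift_snd, GIT.psi, Over.id_left,
        Category.comp_id] at this
      exact this.symm
    haveI : IsIso (pullback.diagonal
        (pullback.fst (GIT.psi a (𝟙 X)).left (lift (𝟙 X) (𝟙 X)).left)) :=
      (pullback.isIso_diagonal_iff _).mpr inferInstance
    haveI : FormallyUnramified (pullback.fst (GIT.psi a (𝟙 X)).left (lift (𝟙 X) (𝟙 X)).left) :=
      inferInstance
    haveI : FormallyUnramified (stX a) := by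
      rw [e]; exact MorphismProperty.comp_mem @FormallyUnramified _ _ ‹_› ‹_›
    exact isIso_fibre_of_unramified a x

theorem universallyInjective_iff (hG : CharZero k ∨ (IsFinite G.hom ∧ Etale G.hom)) :
    UniversallyInjective (stX a) ↔ ∀ x : X.left, IsIso ((stX a).fiberToSpecResidueField x) := by
  refine ⟨fun _ => isIso_fibres a hG, fun h => ?_⟩
  haveI := (stX_properties a).1
  haveI : Mono (stX a) := (UnramFibre.mono_iff_fibres (stX a)).mpr fun x => by
    haveI := h x; infer_instance
  infer_instance

theorem isClosedImmersion_psi_iff (hG : CharZero k ∨ (IsFinite G.hom ∧ Etale G.hom)) :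
    IsClosedImmersion (GIT.psi a (𝟙 X)).left ↔
      IsProper (GIT.psi a (𝟙 X)).left ∧ UniversallyInjective (stX a) := by
  refine ⟨fun _ => ⟨inferInstance, ?_⟩, fun ⟨_, _⟩ => ?_⟩
  · haveI : Mono (stX a) := (mono_psi_iff a).mp inferInstance
    infer_instance
  · exact isClosedImmersion_psi_of_fibres a (isIso_fibres a hG)

end Groth.Agent.GITFree
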